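import Cfsg.Agent.Lib.InvolutionCount

/-!
The commutator subgroup of an orthogonal group in characteristic two as the kernel of the Dickson
invariant, given that reflections generate; generation for the four-dimensional spaces without
totally singular planes.
-/

set_option autoImplicit false

namespace Cfsg.Agent.Lib.MinusInvCount52

open Module QuadraticMap Cfsg.Agent.Lib.Forms

variable {F : Type*} [Field F] [Finite F] {V : Type*} [AddCommGroup V] [Module F V]
  [FiniteDimensional F V] {Q : QuadraticForm F V}

omit [Finite F] in
/-- Without totally singular planes the reflections generate. -/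
theorem closure_reflSet_of_index_one (hQ : Nondeg Q)
    (hU : ∀ U : Submodule F V, (∀ w ∈ U, Q w = 0) → finrank F U ≤ 1) :
    Subgroup.closure (reflSet Q) = ⊤ := by
  suffices ∀ k (g : orth Q), finrank F V - finrank F (fixSpace g.1) = k →
      g ∈ Subgroup.closure (reflSet Q) from
    eq_top_iff.2 fun g _ => this _ g rfl
  intro k
  induction k using Nat.strong_induction_on with
  | _ k ih =>
    intro g hk
    by_cases hg : g = 1
    · rw [hg]; exact one_mem _
    obtain ⟨a, ha⟩ : ∃ a, Q (dev g.1 a) ≠ 0 := by
      by_contra hns
      push Not at hns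
      -- every displacement is singular: the displacement space is a singular plane at least
      have hperp : ∀ x, polar Q x (dev g.1 x) = 0 := fun x => by
        rw [polar_self_dev g.2, hns, neg_zero]
      have hskew : ∀ x y, polar Q x (dev g.1 y) + polar Q y (dev g.1 x) = 0 := fun x y => by
        have := hperp (x + y)
        simp only [map_add, polar_add_left, polar_add_right, hperp] at this
        linear_combination this
      obtain ⟨a, ha⟩ : ∃ a, g.1 a ≠ a := by
        by_contra hc
        push Not at hc
        exact hg (Subtype.ext (LinearEquiv.ext hc))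
      have ha' : dev g.1 a ≠ 0 := by rwa [dev_apply, sub_ne_zero]
      obtain ⟨b, hb⟩ : ∃ b, polar Q b (dev g.1 a) ≠ 0 := by
        by_contra hc
        push Not at hc
        exact ha' (hQ _ fun y => (polar_comm Q _ y).trans (hc y))
      have hab : polar Q a (dev g.1 b) ≠ 0 := fun h => hb (by
        have := hskew a b
        rwa [h, zero_add] at this)
      have hli : LinearIndependent F ![dev g.1 b, dev g.1 a] := by
        refine LinearIndependent.pair_iff.2 fun s t hst => ?_
        have e1 := congrArg (polar Q a) hst
        have e2 := congrArg (polar Q b) hst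
        simp only [polar_add_right, polar_smul_right, hperp, polar_zero_right, smul_eq_mul,
          mul_zero, add_zero, zero_add] at e1 e2
        exact ⟨(mul_eq_zero.1 e1).resolve_right hab, (mul_eq_zero.1 e2).resolve_right hb⟩
      have h2 := hU (LinearMap.range (dev g.1)) (by rintro _ ⟨x, rfl⟩; exact hns x)
      have h3 : finrank F (Submodule.span F (Set.range ![dev g.1 b, dev g.1 a])) = 2 := by
        rw [finrank_span_eq_card hli, Fintype.card_fin]
      have h4 := Submodule.finrank_mono (s := Submodule.span F (Set.range ![dev g.1 b, dev g.1 a]))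
        (t := LinearMap.range (dev g.1)) (Submodule.span_le.2 (by
          rintro _ ⟨i, rfl⟩; fin_cases i <;> exact LinearMap.mem_range_self _ _))
      omega
    set T := orefl Q (dev g.1 a)
    have hlt : finrank F (fixSpace g.1) < finrank F (fixSpace (T * g).1) := by
      apply Submodule.finrank_lt_finrank_of_lt
      refine lt_of_le_of_ne (fun k hk => ?_) (fun he => ?_)
      · rw [mem_fixSpace] at hk ⊢
        show refl Q (dev g.1 a) (g.1 k) = k
        rw [hk]
        refine refl_fix Q ?_
        rw [polar_comm]; exact polar_fix_dev g.2 (mem_fixSpace.2 hk) a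
      · have hTa : refl Q (dev g.1 a) (g.1 a) = a := by
          rw [refl_apply]
          have hp : polar Q (dev g.1 a) (g.1 a) = Q (dev g.1 a) := by
            conv_lhs => rw [apply_eq_add_dev g.1 a]
            rw [polar_add_right, polar_self', polar_comm Q (dev g.1 a) a, polar_self_dev g.2]; ring
          rw [hp, inv_mul_cancel₀ ha, one_smul, dev_apply]; abel
        have hmem : a ∈ fixSpace (T * g).1 := mem_fixSpace.2 hTa
        rw [← he, mem_fixSpace] at hmem
        exact ha (by rw [dev_apply, hmem, sub_self, QuadraticMap.map_zero])
    have hle := Submodule.finrank_le (fixSpace (T * g).1)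
    have := ih _ (by omega) (T * g) rfl
    have := mul_mem (inv_mem (orefl_mem_closure Q (dev g.1 a))) this
    rwa [inv_mul_cancel_left] at this

variable (hQ : Nondeg Q) (hgen : Subgroup.closure (reflSet Q) = ⊤)
include hQ hgen

omit [Finite F] in
theorem dickson_mul (a b : orth Q) : dickson Q (a * b) = dickson Q a + dickson Q b := by
  have hb : b ∈ Subgroup.closure (reflSet Q) := by rw [hgen]; trivial
  induction hb using Subgroup.closure_induction generalizing a with
  | mem x hx =>
    obtain ⟨v, hv, rfl⟩ := hx
    rw [dickson_mul_orefl hQ a hv, dickson_orefl hQ hv]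
  | one => rw [mul_one, dickson_one, add_zero]
  | mul x y _ _ ihx ihy => rw [← mul_assoc, ihy, ihx, ihy x, add_assoc]
  | inv x _ ihx =>
    have e1 : dickson Q a = dickson Q (a * x⁻¹) + dickson Q x := by
      rw [← ihx, inv_mul_cancel_right]
    have e2 : 0 = dickson Q x⁻¹ + dickson Q x := by
      rw [← ihx, inv_mul_cancel, dickson_one]
    linear_combination e2 - e1

theorem mem_commutator_iff_dickson (h2 : (2 : F) = 0) (hn : 2 ≤ finrank F V) (g : orth Q) :
    g ∈ commutator (orth Q) ↔ dickson Q g = 0 := by
  have := Module.finite_of_finite F (M := V)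
  let D : orth Q →* Multiplicative (ZMod 2) :=
    MonoidHom.mk' (fun g => Multiplicative.ofAdd (dickson Q g)) fun a b => by
      rw [dickson_mul hQ hgen, ofAdd_add]
  constructor
  · intro hg
    exact Multiplicative.ofAdd.injective
      (MonoidHom.mem_ker.1 (Abelianization.commutator_subset_ker D hg))
  · intro hg
    obtain ⟨v, hv⟩ := exists_Q_eq hQ hn 1
    set a := Abelianization.of (orefl Q v) with hadef
    have ha : a * a = 1 := abelianization_orefl_sq v
    have key : ∀ g : orth Q, (dickson Q g = 0 ∧ Abelianization.of g = 1) ∨
        (dickson Q g = 1 ∧ Abelianization.of g = a) := by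
      intro g
      have hg : g ∈ Subgroup.closure (reflSet Q) := by rw [hgen]; trivial
      induction hg using Subgroup.closure_induction with
      | mem r hr =>
        obtain ⟨z, hz, rfl⟩ := hr
        refine Or.inr ⟨dickson_orefl hQ hz, ?_⟩
        obtain ⟨t, ht⟩ := exists_sqrt h2 (Q z)
        refine abelianization_orefl_eq hQ (by rw [hv]; exact one_ne_zero) (t := t) ?_
          (by rw [hv, ht, mul_one])
        rintro rfl
        exact hz (by rw [← ht, mul_zero])
      | one => exact Or.inl ⟨dickson_one Q, map_one _⟩
      | mul x y _ _ hx hy =>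
        rw [dickson_mul hQ hgen, map_mul]
        rcases hx with ⟨x1, x2⟩ | ⟨x1, x2⟩ <;> rcases hy with ⟨y1, y2⟩ | ⟨y1, y2⟩ <;>
          rw [x1, x2, y1, y2]
        · exact Or.inl ⟨add_zero _, one_mul _⟩
        · exact Or.inr ⟨zero_add _, one_mul _⟩
        · exact Or.inr ⟨add_zero _, mul_one _⟩
        · exact Or.inl ⟨rfl, ha⟩
      | inv x _ hx =>
        have e2 : dickson Q x⁻¹ + dickson Q x = 0 := by
          rw [← dickson_mul hQ hgen, inv_mul_cancel, dickson_one]
        rw [map_inv]
        rcases hx with ⟨x1, x2⟩ | ⟨x1, x2⟩ <;> rw [x1] at e2 <;> rw [x2]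
        · exact Or.inl ⟨by rwa [add_zero] at e2, inv_one⟩
        · exact Or.inr ⟨by revert e2; generalize dickson Q x⁻¹ = z; revert z; decide,
            inv_eq_of_mul_eq_one_left ha⟩
    rcases key g with ⟨-, h⟩ | ⟨h, -⟩
    · exact (QuotientGroup.eq_one_iff g).1 h
    · rw [hg] at h; exact absurd h zero_ne_one

end Cfsg.Agent.Lib.MinusInvCount52
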