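/-
Existence of involutions of O⁻_2(k+1) with every admissible invariant (characteristic two).
-/
import Cfsg.Agent.Lib.InvolutionCount

set_option autoImplicit false
open Cfsg

namespace Cfsg.Agent.Lib.MinusInvCount52
open Cfsg.Agent.Lib Cfsg.Agent.Lib.Char2Inv QuadraticMap

variable {F : Type*} [Field F] [Fintype F] [CharP F 2]

theorem exists_minus_involution {k : ℕ} {a b : F}
    (hab : ∀ z₁ z₂ : F, z₁ ^ 2 + a * z₁ * z₂ + b * z₂ ^ 2 = 0 → z₁ = 0 ∧ z₂ = 0)
    {x : ℕ × Bool} (hsb : x ∈ InvolutionCount.shapes (k + 1) k) :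
    ∃ t : ↥(Cfsg.isometryGroup F (Cfsg.quadFormMinus k F a b)),
      orderOf t = 2 ∧ InvolutionCount.inv (OrthMatrix.qMinus k a b) t = x := by
  classical
  set Q := OrthMatrix.qMinus k a b with hQdef
  have hf : ∀ v, Cfsg.quadFormMinus k F a b v = Q v := OrthMatrix.qMinus_apply k a b
  obtain ⟨s, β⟩ := x
  rw [InvolutionCount.mem_shapes] at hsb
  -- coordinates
  let π : ((Fin k ⊕ Fin k) ⊕ Fin 2 → F) →ₗ[F] (Fin k ⊕ Fin k → F) := LinearMap.funLeft F F Sum.inl
  have hπ : Function.Surjective π := LinearMap.funLeft_surjective_of_injective F F _ Sum.inl_injective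
  let ι₀ : (Fin k ⊕ Fin k → F) →ₗ[F] ((Fin k ⊕ Fin k) ⊕ Fin 2 → F) :=
    { toFun := fun w => Sum.elim w 0
      map_add' := fun u w => by funext i; rcases i with i | i <;> simp
      map_smul' := fun c w => by funext i; rcases i with i | i <;> simp }
  have hQsplit : ∀ v, Q v = Forms.qPlus k (π v) +
      (v (.inr 0) ^ 2 + a * v (.inr 0) * v (.inr 1) + b * v (.inr 1) ^ 2) := fun v => by
    rw [← hf, Forms.qPlus_apply]; rfl
  have hpol0 : ∀ v w, polar Q v (ι₀ w) = polar (Forms.qPlus k) (π v) w := fun v w => by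
    simp only [polar, hQsplit, map_add, show π (ι₀ w) = w from rfl,
      show ι₀ w (.inr 0) = 0 from rfl, show ι₀ w (.inr 1) = 0 from rfl, Pi.add_apply, add_zero]
    ring
  by_cases hsk : s ≤ k
  · have hsb' : (s, β) ∈ InvolutionCount.shapes k k := by
      rw [InvolutionCount.mem_shapes]
      rcases hsb with ⟨h, h1, -⟩ | h
      · exact Or.inl ⟨h, h1, hsk⟩
      · exact Or.inr h
    obtain ⟨N, hsq, hI, hr, hty⟩ := InvolutionCount.exists_model (F := F) hsb'
    have hs1 : 1 ≤ s := by rcases hsb with h | h <;> omega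
    have hrank : Module.finrank F (LinearMap.range (ι₀.comp (N.comp π))) = s := by
      rw [LinearMap.range_comp, LinearMap.range_comp_of_range_eq_top _ (LinearMap.range_eq_top.2 hπ), ← hr]
      exact (Submodule.equivMapOfInjective ι₀ (fun u w h => funext fun i => congrFun h (.inl i)) _).symm.finrank_eq
    obtain ⟨t, ht2, htN⟩ := InvolutionCount.exists_involution Q hf (N := ι₀.comp (N.comp π))
      (fun x => by
        show ι₀ (N (π (ι₀ (N (π x))))) = 0
        rw [show π (ι₀ (N (π x))) = N (π x) from rfl, hsq, map_zero])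
      (fun x => by
        rw [hQsplit, hQsplit]
        show Forms.qPlus k (π x + N (π x)) + _ = _
        rw [hI]
        congr 1
        simp [ι₀])
      (fun h0 => by rw [h0, LinearMap.range_zero, finrank_bot] at hrank; omega)
    refine ⟨t, ht2, ?_⟩
    rw [InvolutionCount.inv, htN, hrank]
    refine Prod.ext rfl (Bool.eq_iff_iff.2 ?_)
    simp only [decide_eq_true_iff]
    refine Iff.trans ?_ hty
    constructor
    · intro h w
      obtain ⟨v, rfl⟩ := hπ w
      rw [← hpol0]; exact h v
    · intro h v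
      exact (hpol0 v _).trans (h (π v))
  · obtain ⟨rfl, hs⟩ : β = false ∧ s = k + 1 := by
      rcases hsb with ⟨h, h1, h2⟩ | ⟨-, -, -, h2⟩
      · exact ⟨h, by omega⟩
      · omega
    subst hs
    let φ : ((Fin k ⊕ Fin k) ⊕ Fin 2 → F) →ₗ[F] (Fin k → F) × F :=
      ((InvolutionCount.planeSum le_rfl).comp π).prod (a • LinearMap.proj (Sum.inr 1))
    let ψ : (Fin k → F) × F →ₗ[F] ((Fin k ⊕ Fin k) ⊕ Fin 2 → F) :=
      { toFun := fun p => Sum.elim (InvolutionCount.diagExt le_rfl p.1) ![p.2, 0]
        map_add' := fun u w => by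
          funext i; rcases i with i | i
          · simp
          · fin_cases i <;> simp
        map_smul' := fun c w => by
          funext i; rcases i with i | i
          · simp
          · fin_cases i <;> simp }
    have ha : a ≠ 0 := OrthMatrix.anisotropic_coeff_ne_zero hab
    have hφ : Function.Surjective φ := fun p => by
      obtain ⟨u, hu⟩ := InvolutionCount.planeSum_surjective (F := F) (le_refl k) p.1
      refine ⟨Sum.elim u ![0, p.2 / a], Prod.ext hu ?_⟩
      show a * (p.2 / a) = p.2
      field_simp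
    have hψ : Function.Injective ψ := fun u w h => by
      refine Prod.ext (InvolutionCount.ext0_injective le_rfl (funext fun i => congrFun h (.inl (.inl i)))) ?_
      exact congrFun h (.inr 0)
    have hrank : Module.finrank F (LinearMap.range (ψ.comp φ)) = k + 1 := by
      rw [LinearMap.range_comp_of_range_eq_top _ (LinearMap.range_eq_top.2 hφ), LinearMap.finrank_range_of_inj hψ,
        Module.finrank_prod, Module.finrank_fin_fun, Module.finrank_self]
    have hπψ : ∀ x, π (ψ (φ x)) = InvolutionCount.oddN le_rfl (π x) := fun x => rfl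
    obtain ⟨t, ht2, htN⟩ := InvolutionCount.exists_involution Q hf (N := ψ.comp φ)
      (fun x => by
        have h0 : φ (ψ (φ x)) = 0 := by
          refine Prod.ext ?_ ?_
          · funext j
            show InvolutionCount.ext0 le_rfl (φ x).1 (Fin.castLE le_rfl j) + InvolutionCount.ext0 le_rfl (φ x).1 (Fin.castLE le_rfl j) = 0
            exact CharTwo.add_self_eq_zero _
          · show a * (![(φ x).2, 0] 1) = 0
            simp
        show ψ (φ (ψ (φ x))) = 0
        rw [h0, map_zero])
      (fun x => by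
        rw [hQsplit, hQsplit, LinearMap.comp_apply, map_add, hπψ, InvolutionCount.oddN_isometry]
        congr 1
        show (x (.inr 0) + a * x (.inr 1)) ^ 2 + a * (x (.inr 0) + a * x (.inr 1)) * (x (.inr 1) + 0) +
          b * (x (.inr 1) + 0) ^ 2 = _
        linear_combination (a * x (.inr 0) * x (.inr 1) + a * a * x (.inr 1) * x (.inr 1)) * (CharTwo.two_eq_zero (R := F)))
      (fun h0 => by rw [h0, LinearMap.range_zero, finrank_bot] at hrank; omega)
    refine ⟨t, ht2, ?_⟩
    rw [InvolutionCount.inv, htN, hrank]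
    refine Prod.ext rfl ?_
    simp only [decide_eq_false_iff_not]
    intro h
    set v : (Fin k ⊕ Fin k) ⊕ Fin 2 → F := Pi.single (.inr 1) 1 with hv
    have h1 := h v
    have hI := OrthMatrix.nil_isometry Q hf t
    rw [htN] at hI
    rw [← Orth.Q_N hI, hQsplit, LinearMap.comp_apply, hπψ,
      show π v = 0 by funext i; simp [π, hv, LinearMap.funLeft_apply], map_zero, QuadraticMap.map_zero] at h1
    change (0 : F) + ((a * v (.inr 1)) ^ 2 + a * (a * v (.inr 1)) * 0 + b * 0 ^ 2) = 0 at h1
    simp [hv, ha] at h1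

end Cfsg.Agent.Lib.MinusInvCount52
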